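import Groth.Agent.Lib.NeronSH24.EtModel
import Groth.Agent.Lib.SchDense.FracSquare
import Mathlib

/-!
# Existence of the Néron model of a finite étale scheme
-/

set_option autoImplicit false
set_option backward.isDefEq.respectTransparency false
set_option backward.isDefEq.respectTransparency.types false

universe u

open CategoryTheory Limits AlgebraicGeometry TopologicalSpace

namespace GrothLib.NeronSH24

variable (R : Type u) [CommRing R] [IsDedekindDomain R]

/-- A finite étale scheme over the fraction field has an étale model with the mapping property. -/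
theorem exists_etModel {I : Type u} [Finite I] (Li : I → Type u)
    [∀ i, Field (Li i)] [∀ i, Algebra (FractionRing R) (Li i)] [∀ i, Algebra R (Li i)]
    [∀ i, IsScalarTower R (FractionRing R) (Li i)] [∀ i, Module.Finite (FractionRing R) (Li i)]
    [∀ i, Algebra.IsSeparable (FractionRing R) (Li i)] :
    ∃ (N : Scheme.{u}) (pN : N ⟶ Spec (CommRingCat.of R)) (c : Spec (CommRingCat.of (∀ i, Li i)) ⟶ N),
      Etale pN ∧ IsSeparated pN ∧ QuasiCompact pN ∧
      IsPullback c (Spec.map (CommRingCat.ofHom (algebraMap (FractionRing R) (∀ i, Li i)))) pN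
        (Spec.map (CommRingCat.ofHom (algebraMap R (FractionRing R)))) ∧
      ∀ (X : Scheme.{u}) (pX : X ⟶ Spec (CommRingCat.of R)), Smooth pX →
        ∀ u : pullback pX (Spec.map (CommRingCat.ofHom (algebraMap R (FractionRing R)))) ⟶ N,
          u ≫ pN = pullback.snd pX _ ≫ Spec.map (CommRingCat.ofHom (algebraMap R (FractionRing R))) →
          ∃! g : X ⟶ N, g ≫ pN = pX ∧ pullback.fst pX _ ≫ g = u := by
  haveI := finite_etB R Li
  haveI := flat_etB R Li
  haveI : Algebra.FinitePresentation R (EtB R Li) := Algebra.FinitePresentation.of_finiteType.mp inferInstance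
  haveI : IsNoetherianRing (EtB R Li) := Algebra.FiniteType.isNoetherianRing R _
  let U : (Spec (CommRingCat.of (EtB R Li))).Opens :=
    ⟨Algebra.unramifiedLocus R (EtB R Li), Algebra.isOpen_unramifiedLocus⟩
  haveI : Etale (U.ι ≫ Spec.map (CommRingCat.ofHom (algebraMap R (EtB R Li)))) :=
    etale_of_subset_unramifiedLocus U subset_rfl
  have hr : Set.range (Spec.map (CommRingCat.ofHom (etIncl R Li).toRingHom)) ⊆ Set.range U.ι := by
    rintro _ ⟨P, rfl⟩
    rw [Scheme.Opens.range_ι]
    haveI := P.isPrime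
    exact unramified_of_generic R Li P.asIdeal
  have hc := IsOpenImmersion.lift_fac U.ι _ hr
  have big : IsPullback (Spec.map (CommRingCat.ofHom (etIncl R Li).toRingHom))
      (Spec.map (CommRingCat.ofHom (algebraMap (FractionRing R) (∀ i, Li i))))
      (Spec.map (CommRingCat.ofHom (algebraMap R (EtB R Li))))
      (Spec.map (CommRingCat.ofHom (algebraMap R (FractionRing R)))) := by
    letI := (etIncl R Li).toRingHom.toAlgebra
    haveI : IsLocalization ((nonZeroDivisors R).map (algebraMap R (EtB R Li))) (∀ i, Li i) := isPushout_etB R Li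
    exact GrothLib.SchDense.isPullback_fractionRing (algebraMap R (EtB R Li)) (algebraMap (FractionRing R) (∀ i, Li i))
      (fun r => funext fun i => (IsScalarTower.algebraMap_apply R (FractionRing R) (Li i) r).symm) (nonZeroDivisors R)
  have sq := isPullback_of_comp_mono (IsOpenImmersion.lift U.ι _ hr) _ U.ι _ _ (hc.symm ▸ big)
  haveI : CompactSpace (U : Scheme.{u}) := isCompact_iff_compactSpace.mp (NoetherianSpace.isCompact (α := PrimeSpectrum (EtB R Li)) U.1)
  refine ⟨U, U.ι ≫ Spec.map (CommRingCat.ofHom (algebraMap R (EtB R Li))), IsOpenImmersion.lift U.ι _ hr,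
    inferInstance, inferInstance, inferInstance, sq, fun X pX hX u hu => ?_⟩
  haveI := hX
  obtain ⟨g, hg, hgu⟩ := exists_extension_of_forall_localExt R _ pX u hu
    fun x _ => localExt_etModel R Li pX U rfl _ hc sq u hu x
  exact ⟨g, ⟨hg, hgu⟩, fun g₂ hg₂ => ext_of_genericFibre R _ pX g₂ g hg₂.1 hg (hg₂.2.trans hgu.symm)⟩

/-- The model of a finite étale scheme. -/
theorem exists_neronModel_finiteEtale (G : Over (Spec (CommRingCat.of (FractionRing R))))
    [IsFinite G.hom] [Etale G.hom] :
    ∃ (N : Over (Spec (CommRingCat.of R)))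
      (e : (Over.pullback (Spec.map (CommRingCat.ofHom (algebraMap R (FractionRing R))))).obj N ≅ G),
      Etale N.hom ∧ IsSeparated N.hom ∧ QuasiCompact N.hom ∧
      ∀ Y : Over (Spec (CommRingCat.of R)), Smooth Y.hom → Function.Bijective (fun g : Y ⟶ N =>
        (Over.pullback (Spec.map (CommRingCat.ofHom (algebraMap R (FractionRing R))))).map g ≫ e.hom) := by
  let j := Spec.map (CommRingCat.ofHom (algebraMap R (FractionRing R)))
  haveI : IsAffine G.left := isAffine_of_isAffineHom G.hom
  obtain ⟨α, hα⟩ := Spec.map_surjective (G.left.isoSpec.inv ≫ G.hom)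
  letI : Algebra (FractionRing R) Γ(G.left, ⊤) := α.hom.toAlgebra
  haveI : Algebra.Etale (FractionRing R) Γ(G.left, ⊤) := by
    have h : Etale (Spec.map α) := by rw [hα]; infer_instance
    exact RingHom.etale_algebraMap.mp ((HasRingHomProperty.Spec_iff (P := @Etale)).mp h)
  obtain ⟨I, _, Li, _, _, e, hLi⟩ := (Algebra.Etale.iff_exists_algEquiv_prod (K := FractionRing R)
    (A := Γ(G.left, ⊤))).mp inferInstance
  haveI : ∀ i, Module.Finite (FractionRing R) (Li i) := fun i => (hLi i).1
  haveI : ∀ i, Algebra.IsSeparable (FractionRing R) (Li i) := fun i => (hLi i).2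
  letI : ∀ i, Algebra R (Li i) :=
    fun i => ((algebraMap (FractionRing R) (Li i)).comp (algebraMap R (FractionRing R))).toAlgebra
  haveI : ∀ i, IsScalarTower R (FractionRing R) (Li i) := fun i => IsScalarTower.of_algebraMap_eq fun _ => rfl
  obtain ⟨N, pN, c, h₁, h₂, h₃, sq, hmap⟩ := exists_etModel R Li
  let ρ : CommRingCat.of (∀ i, Li i) ≅ Γ(G.left, ⊤) := e.symm.toRingEquiv.toCommRingCatIso
  let ε : G.left ≅ Spec (CommRingCat.of (∀ i, Li i)) := G.left.isoSpec ≪≫ Scheme.Spec.mapIso ρ.op
  have hε : ε.hom ≫ Spec.map (CommRingCat.ofHom (algebraMap (FractionRing R) (∀ i, Li i))) = G.hom := by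
    show (G.left.isoSpec.hom ≫ Spec.map ρ.hom) ≫ _ = _
    rw [Category.assoc, ← Spec.map_comp, ← Iso.eq_inv_comp, ← hα]
    exact congrArg Spec.map (CommRingCat.hom_ext (RingHom.ext fun r => e.symm.commutes r))
  let eh : pullback pN j ≅ G.left := sq.isoPullback.symm ≪≫ ε.symm
  have hfst : eh.inv ≫ pullback.fst pN j = ε.hom ≫ c := by
    show (ε.hom ≫ sq.isoPullback.hom) ≫ _ = _
    rw [Category.assoc, sq.isoPullback_hom_fst]
  have hsnd : eh.inv ≫ pullback.snd pN j = G.hom := by
    show (ε.hom ≫ sq.isoPullback.hom) ≫ _ = _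
    rw [Category.assoc, sq.isoPullback_hom_snd, hε]
  let eo : (Over.pullback j).obj (Over.mk pN) ≅ G := Over.isoMk eh (by
    rw [← hsnd, Iso.hom_inv_id_assoc]
    rfl)
  refine ⟨Over.mk pN, eo, h₁, h₂, h₃, fun Y hY => ?_⟩
  have hm : ∀ g : Y ⟶ Over.mk pN, ((Over.pullback j).map g).left ≫ pullback.fst pN j = pullback.fst Y.hom j ≫ g.left :=
    fun g => pullback.lift_fst _ _ _
  refine ⟨fun g₁ g₂ h => ?_, fun w => ?_⟩
  · have h' : (Over.pullback j).map g₁ = (Over.pullback j).map g₂ := (cancel_mono eo.hom).1 h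
    have e1 : pullback.fst Y.hom j ≫ g₁.left = pullback.fst Y.hom j ≫ g₂.left := by
      rw [← hm, ← hm, h']
    obtain ⟨g, -, huniq⟩ := hmap Y.left Y.hom hY (pullback.fst Y.hom j ≫ g₁.left)
      (by rw [Category.assoc, show g₁.left ≫ pN = Y.hom from Over.w g₁]; exact pullback.condition)
    exact Over.OverMorphism.ext ((huniq _ ⟨Over.w g₁, rfl⟩).trans (huniq _ ⟨Over.w g₂, e1.symm⟩).symm)
  · let w' := w ≫ eo.inv
    have hw : w'.left ≫ pullback.snd pN j = pullback.snd Y.hom j := Over.w w'
    obtain ⟨g, ⟨hg, hgu⟩, -⟩ := hmap Y.left Y.hom hY (w'.left ≫ pullback.fst pN j)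
      (by rw [Category.assoc, pullback.condition, reassoc_of% hw])
    refine ⟨Over.homMk g hg, ?_⟩
    show (Over.pullback j).map (Over.homMk g hg : Y ⟶ Over.mk pN) ≫ eo.hom = w
    rw [← Iso.eq_comp_inv]
    refine Over.OverMorphism.ext (pullback.hom_ext ?_ ?_)
    · exact (hm _).trans hgu
    · exact (pullback.lift_snd _ _ _).trans hw.symm

end GrothLib.NeronSH24
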