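import Groth.Agent.Lib.PseudoCompl.Basic
import Groth.Agent.Lib.RedSmooth.Basic
import Groth.Agent.Lib.GlobalConst.Algebra
import Groth.Agent.Lib.NeronSH24.Ring
import Mathlib

/-!
# Unramified points of finite normal models
-/

set_option autoImplicit false
set_option backward.isDefEq.respectTransparency false
set_option backward.isDefEq.respectTransparency.types false

universe u

open TensorProduct IsLocalRing

namespace GrothLib.NeronSH24

variable {R : Type u} [CommRing R] (p : Ideal R) [p.IsPrime]

theorem isGeometricallyReduced_fiber (C : Type u) [CommRing C] [Algebra R C] [Algebra.Smooth R C] :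
    Algebra.IsGeometricallyReduced p.ResidueField (p.ResidueField ⊗[R] C) := by
  rw [Algebra.isGeometricallyReduced_field_iff]
  exact GrothLib.RedSmooth.isReduced_of_algebra_smooth (AlgebraicClosure p.ResidueField) _

theorem map_isRadical_of_isMaximal [p.IsMaximal] (C A : Type u) [CommRing C] [Algebra R C] [Algebra.Smooth R C]
    (P : Ideal C) [P.IsPrime] [CommRing A] [Algebra C A] [IsLocalization.AtPrime A P]
    [Algebra R A] [IsScalarTower R C A] :
    (p.map (algebraMap R A)).IsRadical := by
  haveI := isGeometricallyReduced_fiber p C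
  haveI : _root_.IsReduced (p.ResidueField ⊗[R] C) := Algebra.isReduced_of_isGeometricallyReduced p.ResidueField
  let e : (R ⧸ p) ≃ₐ[R] p.ResidueField :=
    AlgEquiv.ofBijective (IsScalarTower.toAlgHom R (R ⧸ p) p.ResidueField) p.bijective_algebraMap_quotient_residueField
  haveI : _root_.IsReduced (C ⊗[R] (R ⧸ p)) :=
    isReduced_of_injective ((Algebra.TensorProduct.congr (AlgEquiv.refl (R := R) (A₁ := C)) e).trans
      (Algebra.TensorProduct.comm R C p.ResidueField))
      (AlgEquiv.injective _)
  haveI : _root_.IsReduced (C ⧸ p.map (algebraMap R C)) :=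
    isReduced_of_injective (Algebra.TensorProduct.quotIdealMapEquivTensorQuot C p)
      (Algebra.TensorProduct.quotIdealMapEquivTensorQuot C p).injective
  rw [IsScalarTower.algebraMap_eq R C A, ← Ideal.map_map]
  exact map_isRadical_of_isLocalization P.primeCompl _
    (Ideal.isRadical_iff_quotient_reduced _ |>.2 inferInstance)

/-- The map from the fibre into a geometrically reduced algebra. -/
theorem exists_fibre_hom [p.IsMaximal] (C A : Type u) [CommRing C] [Algebra R C] [Algebra.Smooth R C]
    (P : Ideal C) [P.IsPrime] [CommRing A] [Algebra C A] [IsLocalization.AtPrime A P]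
    [IsLocalRing A] [Algebra R A] [IsScalarTower R C A] (hp : p.map (algebraMap R A) ≤ maximalIdeal A) :
    ∃ (L : Type u) (_ : CommRing L) (_ : Nontrivial L) (_ : Algebra p.ResidueField L) (g : A →+* L),
      Algebra.IsGeometricallyReduced p.ResidueField L ∧
      ∀ r, g (algebraMap R A r) = algebraMap p.ResidueField L (algebraMap R p.ResidueField r) := by
  haveI := isGeometricallyReduced_fiber p C
  have hp₂ : p.primeCompl ≤ (IsUnit.submonoid (ResidueField A)).comap ((residue A).comp (algebraMap R A)) := by
    intro r hr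
    obtain ⟨s, c, hc, hs⟩ := Ideal.IsMaximal.exists_inv ‹p.IsMaximal› (show r ∉ p from hr)
    refine IsUnit.of_mul_eq_one ((residue A) (algebraMap R A s)) ?_
    have h := congrArg ((residue A).comp (algebraMap R A)) hs
    rw [map_add, map_mul, map_one] at h
    rw [show (residue A).comp (algebraMap R A) c = 0 from
      (residue_eq_zero_iff _).2 (hp (Ideal.mem_map_of_mem _ hc)), add_zero] at h
    exact (mul_comm _ _).trans h
  let κ := ResidueField A
  let ρ : R →ₐ[R] κ := Algebra.ofId R κ
  let σ : p.ResidueField →ₐ[R] κ := Ideal.ResidueField.liftₐ p ρ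
    (fun r hr => (residue_eq_zero_iff _).2 (hp (Ideal.mem_map_of_mem _ hr))) hp₂
  let χ : (p.ResidueField ⊗[R] C) →ₐ[R] κ :=
    Algebra.TensorProduct.lift σ (IsScalarTower.toAlgHom R C κ) fun _ _ => Commute.all _ _
  let Q : Ideal (p.ResidueField ⊗[R] C) := RingHom.ker χ
  haveI : Q.IsPrime := RingHom.ker_isPrime χ
  let L := Localization.AtPrime Q
  haveI : Algebra.IsGeometricallyReduced p.ResidueField L :=
    GrothLib.PseudoCompl.isGeometricallyReduced_localization p.ResidueField _ Q
  let inc : C →+* L := (algebraMap (p.ResidueField ⊗[R] C) L).comp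
    (Algebra.TensorProduct.includeRight (R := R) (A := p.ResidueField) (B := C)).toRingHom
  have hu : ∀ b : P.primeCompl, IsUnit (inc b) := by
    intro b
    refine IsLocalization.map_units L (⟨_, fun hb => ?_⟩ : Q.primeCompl)
    have hb' : χ (1 ⊗ₜ[R] (b : C)) = 0 := hb
    rw [show χ (1 ⊗ₜ[R] (b : C)) = residue A (algebraMap C A b) from
      (Algebra.TensorProduct.lift_tmul _ _ _ _ _).trans (by rw [map_one, one_mul]; rfl)] at hb'
    exact (residue_ne_zero_iff_isUnit _).2 (IsLocalization.map_units A b) hb'
  refine ⟨L, inferInstance, inferInstance, inferInstance, IsLocalization.lift hu, inferInstance, fun r => ?_⟩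
  rw [IsScalarTower.algebraMap_apply R C A, IsLocalization.lift_eq,
    IsScalarTower.algebraMap_apply p.ResidueField (p.ResidueField ⊗[R] C) L]
  refine congrArg (algebraMap (p.ResidueField ⊗[R] C) L) ?_
  exact ((Algebra.TensorProduct.includeRight (R := R) (A := p.ResidueField) (B := C)).commutes r).trans rfl

variable [IsDedekindDomain R]

/-- A point of a finite normal model dominated by a smooth point is unramified. -/
theorem isUnramifiedAt_of_localHom [p.IsMaximal] (B : Type u) [CommRing B] [IsDedekindDomain B] [Algebra R B]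
    [Module.Finite R B] (C A : Type u) [CommRing C] [Algebra R C] [Algebra.Smooth R C]
    (P : Ideal C) [P.IsPrime] [CommRing A] [IsDomain A] [Algebra C A] [IsLocalization.AtPrime A P]
    [IsLocalRing A] [Algebra R A] [IsScalarTower R C A] (hinj : Function.Injective (algebraMap R A))
    (θ : B →ₐ[R] A) (hpA : (maximalIdeal A).comap (algebraMap R A) = p) (hp0 : p ≠ ⊥)
    (q : Ideal B) [q.IsPrime] (hq : q = (maximalIdeal A).comap θ) : Algebra.IsUnramifiedAt R q := by
  haveI : q.LiesOver p := ⟨by
    rw [hq]
    ext r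
    show r ∈ p ↔ θ (algebraMap R B r) ∈ maximalIdeal A
    rw [θ.commutes, ← hpA]
    rfl⟩
  letI := Localization.AtPrime.algebraOfLiesOver p q
  rw [Algebra.isUnramifiedAt_iff_map_eq R p q]
  have hq0 : q ≠ ⊥ := fun h => by
    obtain ⟨t, ht, ht0⟩ := Submodule.exists_mem_ne_zero_of_ne_bot hp0
    have h1 : algebraMap R B t ∈ q := (Ideal.mem_of_liesOver q p t).1 ht
    rw [h, Ideal.mem_bot] at h1
    exact ht0 (hinj (by rw [← θ.commutes, h1, map_zero, map_zero]))
  let D := Localization.AtPrime q
  haveI : IsDiscreteValuationRing D :=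
    IsLocalization.AtPrime.isDiscreteValuationRing_of_dedekind_domain B hq0 D
  have hθu : ∀ b : q.primeCompl, IsUnit (θ (b : B)) := fun b => by
    by_contra h
    exact b.2 (hq ▸ (h : θ (b : B) ∈ maximalIdeal A))
  let g : D →+* A := IsLocalization.lift (g := θ.toRingHom) hθu
  have hgR : ∀ r, g (algebraMap R D r) = algebraMap R A r := fun r => by
    rw [IsScalarTower.algebraMap_apply R B D, IsLocalization.lift_eq]
    exact θ.commutes r
  have hmap : g.comp (algebraMap R D) = algebraMap R A := RingHom.ext hgR
  obtain ⟨ϖ, hϖ⟩ := IsDiscreteValuationRing.exists_irreducible D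
  have hϖA : g ϖ ∈ maximalIdeal A := by
    obtain ⟨b, s, hbs⟩ := IsLocalization.exists_mk'_eq q.primeCompl ϖ
    have hb : b ∈ q := (IsLocalization.AtPrime.mk'_mem_maximal_iff D q b s).1 (hbs ▸ hϖ.not_isUnit)
    have hb' : θ b ∈ maximalIdeal A := by rw [hq] at hb; exact hb
    have h : g ϖ * θ (s : B) = θ b := by
      have h1 := congrArg g (IsLocalization.mk'_spec D b s)
      rw [hbs, map_mul, IsLocalization.lift_eq, IsLocalization.lift_eq] at h1
      exact h1
    exact (Ideal.IsPrime.mem_or_mem inferInstance (h ▸ hb')).resolve_right fun hs =>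
      hs (hθu s)
  obtain ⟨t, ht, ht0⟩ := Submodule.exists_mem_ne_zero_of_ne_bot hp0
  have hI0 : p.map (algebraMap R D) ≠ ⊥ := fun h => ht0 (hinj (by
    have h1 : algebraMap R D t ∈ (⊥ : Ideal D) := h ▸ Ideal.mem_map_of_mem _ ht
    rw [← hgR, Ideal.mem_bot.1 h1, map_zero, map_zero]))
  obtain ⟨e, he⟩ := IsDiscreteValuationRing.ideal_eq_span_pow_irreducible hI0 hϖ
  have he1 : e = 1 := by
    rcases Nat.lt_or_ge e 2 with h | h
    · interval_cases e
      · exfalso
        have h1 : p.map (algebraMap R D) ≤ maximalIdeal D := by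
          rw [Ideal.map_le_iff_le_comap]
          intro r hr
          have h2 : algebraMap R B r ∈ q := (Ideal.mem_of_liesOver q p r).1 hr
          rw [Ideal.mem_comap, IsScalarTower.algebraMap_apply R B D]
          exact (IsLocalization.AtPrime.to_map_mem_maximal_iff D q _).2 h2
        rw [he, pow_zero, Ideal.span_singleton_one] at h1
        exact (maximalIdeal.isMaximal D).ne_top (top_le_iff.1 h1)
      · rfl
    · exfalso
      have hJ : p.map (algebraMap R A) = Ideal.span {g ϖ ^ e} := by
        rw [← hmap, ← Ideal.map_map, he, Ideal.map_span, Set.image_singleton, map_pow]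
      have hmem : g ϖ ∈ p.map (algebraMap R A) :=
        map_isRadical_of_isMaximal p C A P ⟨e, hJ ▸ Ideal.mem_span_singleton_self _⟩
      rw [hJ, Ideal.mem_span_singleton] at hmem
      obtain ⟨c, hc⟩ := hmem
      have h0 : g ϖ * (1 - g ϖ ^ (e - 1) * c) = 0 := by
        have : g ϖ ^ e = g ϖ * g ϖ ^ (e - 1) := by rw [← pow_succ', Nat.sub_add_cancel (by omega)]
        rw [mul_sub, mul_one, ← mul_assoc, ← this, ← hc, sub_self]
      have hu : IsUnit (1 - g ϖ ^ (e - 1) * c) :=
        isUnit_one_sub_self_of_mem_nonunits _ (Ideal.mul_mem_right _ _ (Ideal.pow_mem_of_mem _ hϖA _ (by omega)))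
      have hz : g ϖ = 0 := (hu.mul_left_eq_zero).1 h0
      have h1 : algebraMap R A t ∈ p.map (algebraMap R A) := Ideal.mem_map_of_mem _ ht
      rw [hJ, hz, zero_pow (by omega), Ideal.mem_span_singleton, zero_dvd_iff] at h1
      exact ht0 (hinj (h1.trans (map_zero _).symm))
  have hmaxD : p.map (algebraMap R D) = maximalIdeal D := by rw [he, he1, pow_one, hϖ.maximalIdeal_eq]
  refine ⟨?_, hmaxD⟩
  obtain ⟨L, _, _, _, h, hL, hh⟩ := exists_fibre_hom p C A P (by
    rw [Ideal.map_le_iff_le_comap, hpA])
  have hker : maximalIdeal D ≤ RingHom.ker (h.comp g) := by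
    rw [← hmaxD, Ideal.map_le_iff_le_comap]
    intro r hr
    rw [Ideal.mem_comap, RingHom.mem_ker, RingHom.comp_apply, hgR, hh,
      Ideal.algebraMap_residueField_eq_zero.2 hr, map_zero]
  let Θ : q.ResidueField →+* L := Ideal.Quotient.lift (maximalIdeal D) (h.comp g) fun a ha => hker ha
  let Θ' : q.ResidueField →ₐ[p.ResidueField] L := AlgHom.mk Θ fun c => by
    obtain ⟨r, rfl⟩ := p.algebraMap_residueField_surjective c
    rw [← IsScalarTower.algebraMap_apply R p.ResidueField q.ResidueField, ← hh, ← hgR]
    rfl
  haveI : Algebra.IsGeometricallyReduced p.ResidueField q.ResidueField :=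
    Algebra.IsGeometricallyReduced.of_injective Θ' Θ.injective
  haveI : Module.Finite p.ResidueField q.ResidueField := inferInstance
  haveI : _root_.IsReduced (AlgebraicClosure p.ResidueField ⊗[p.ResidueField] q.ResidueField) :=
    (Algebra.isGeometricallyReduced_field_iff _ _).1 inferInstance
  exact GrothLib.GlobalConst.isSeparable_of_isReduced_tensor p.ResidueField q.ResidueField

end GrothLib.NeronSH24
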