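import Groth.Agent.Lib.NeronSH24.Glue
import Groth.Agent.Lib.NeronSH24.EtRing
import Groth.Agent.Lib.RegLoc.Normal
import Mathlib

/-!
# The Néron model of a finite étale scheme
-/

set_option autoImplicit false
set_option backward.isDefEq.respectTransparency false
set_option backward.isDefEq.respectTransparency.types false

universe u

open CategoryTheory Limits AlgebraicGeometry IsLocalRing TopologicalSpace

namespace GrothLib.NeronSH24

/-- An open of the unramified locus of a flat algebra of finite presentation is étale. -/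
theorem etale_of_subset_unramifiedLocus {R B : Type u} [CommRing R] [CommRing B] [Algebra R B]
    [Algebra.FinitePresentation R B] [Module.Flat R B] (U : (Spec (CommRingCat.of B)).Opens)
    (hU : (U.1 : Set (PrimeSpectrum B)) ⊆ Algebra.unramifiedLocus R B) :
    Etale (U.ι ≫ Spec.map (CommRingCat.ofHom (algebraMap R B))) := by
  have hbasis : ∀ q : (U : Scheme.{u}), ∃ r : B, (q.1 : PrimeSpectrum B) ∈ PrimeSpectrum.basicOpen r ∧
      (PrimeSpectrum.basicOpen r : Set (PrimeSpectrum B)) ⊆ U.1 := fun q => by
    obtain ⟨_, ⟨_, ⟨r, rfl⟩, rfl⟩, h1, h2⟩ :=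
      PrimeSpectrum.isBasis_basic_opens.exists_subset_of_mem_open q.2 U.2
    exact ⟨r, h1, h2⟩
  choose r hr hrU using hbasis
  let j : ∀ q, Spec (CommRingCat.of (Localization.Away (r q))) ⟶ Spec (CommRingCat.of B) :=
    fun q => Spec.map (CommRingCat.ofHom (algebraMap B (Localization.Away (r q))))
  haveI : ∀ q, IsOpenImmersion (j q) := fun q => IsOpenImmersion.of_isLocalization (r q)
  have hrange : ∀ q, Set.range (j q) = (PrimeSpectrum.basicOpen (r q) : Set (PrimeSpectrum B)) :=
    fun q => PrimeSpectrum.localization_away_comap_range _ (r q)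
  have hsub : ∀ q, Set.range (j q) ⊆ Set.range U.ι := fun q => by
    rw [hrange, Scheme.Opens.range_ι]
    exact hrU q
  let 𝒰 : (U : Scheme.{u}).OpenCover := Scheme.Cover.mkOfCovers _ _
    (fun q => IsOpenImmersion.lift U.ι (j q) (hsub q))
    (fun q => by
      obtain ⟨w, hw⟩ : (q.1 : PrimeSpectrum B) ∈ Set.range (j q) := (hrange q).symm ▸ hr q
      refine ⟨q, w, U.ι.isOpenEmbedding.injective ?_⟩
      rw [← Scheme.Hom.comp_apply, IsOpenImmersion.lift_fac]
      exact hw)
    (fun q => by
      haveI : IsOpenImmersion (IsOpenImmersion.lift U.ι (j q) (hsub q) ≫ U.ι) := by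
        rw [IsOpenImmersion.lift_fac]; infer_instance
      exact IsOpenImmersion.of_comp _ U.ι)
  refine IsZariskiLocalAtSource.of_openCover (P := @Etale) 𝒰 fun q => ?_
  show Etale (IsOpenImmersion.lift U.ι (j q) (hsub q) ≫ U.ι ≫ Spec.map (CommRingCat.ofHom (algebraMap R B)))
  rw [IsOpenImmersion.lift_fac_assoc, ← Spec.map_comp, ← CommRingCat.ofHom_comp,
    ← IsScalarTower.algebraMap_eq R B (Localization.Away (r q))]
  haveI : Algebra.FormallyUnramified R (Localization.Away (r q)) :=
    Algebra.basicOpen_subset_unramifiedLocus_iff.mp ((hrU q).trans hU)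
  haveI : Module.Flat B (Localization.Away (r q)) := IsLocalization.flat _ (Submonoid.powers (r q))
  haveI : Module.Flat R (Localization.Away (r q)) := Module.Flat.trans R B _
  haveI : Algebra.FinitePresentation B (Localization.Away (r q)) := IsLocalization.Away.finitePresentation (r q)
  haveI : Algebra.FinitePresentation R (Localization.Away (r q)) := Algebra.FinitePresentation.trans R B _
  haveI : Algebra.Etale R (Localization.Away (r q)) := Algebra.Etale.of_formallyUnramified_of_flat
  exact (HasRingHomProperty.Spec_iff (P := @Etale)).mpr (RingHom.etale_algebraMap.mpr inferInstance)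

/-- Base change of a monomorphism factorization. -/
theorem isPullback_of_comp_mono {P Q N V S : Scheme.{u}} (c : P ⟶ N) (g : P ⟶ Q) (ι : N ⟶ V) [Mono ι]
    (f : V ⟶ S) (j : Q ⟶ S) (h : IsPullback (c ≫ ι) g f j) : IsPullback c g (ι ≫ f) j := by
  refine ⟨⟨by simpa using h.w⟩, ⟨PullbackCone.IsLimit.mk _
    (fun s => h.lift (s.fst ≫ ι) s.snd (by simpa using s.condition))
    (fun s => ?_) (fun s => h.lift_snd _ _ _) (fun s m h₁ h₂ => h.hom_ext ?_ ?_)⟩⟩
  · rw [← cancel_mono ι, Category.assoc, h.lift_fst]
  · rw [h.lift_fst, ← h₁, Category.assoc]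
  · rw [h.lift_snd]; exact h₂

variable (R : Type u) [CommRing R] [IsDedekindDomain R] {I : Type u} [Finite I] (Li : I → Type u)
  [∀ i, Field (Li i)] [∀ i, Algebra (FractionRing R) (Li i)] [∀ i, Algebra R (Li i)]
  [∀ i, IsScalarTower R (FractionRing R) (Li i)] [∀ i, Module.Finite (FractionRing R) (Li i)]
  [∀ i, Algebra.IsSeparable (FractionRing R) (Li i)]

/-- The integral closure. -/
abbrev EtB : Type u := ∀ i, integralClosure R (Li i)

/-- The inclusion of the integral closure. -/
noncomputable def etIncl : EtB R Li →ₐ[R] (∀ i, Li i) :=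
  Pi.algHom R _ fun i => (integralClosure R (Li i)).val.comp (Pi.evalAlgHom R (fun i => integralClosure R (Li i)) i)

theorem finite_etB : Module.Finite R (EtB R Li) := by
  haveI : ∀ i, Module.Finite R (integralClosure R (Li i)) :=
    fun i => IsIntegralClosure.finite R (FractionRing R) (Li i) _
  exact inferInstance

theorem injective_algebraMap_li (i : I) : Function.Injective (algebraMap R (Li i)) := by
  rw [IsScalarTower.algebraMap_eq R (FractionRing R) (Li i)]
  exact (algebraMap (FractionRing R) (Li i)).injective.comp (IsFractionRing.injective R (FractionRing R))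

theorem flat_etB : Module.Flat R (EtB R Li) := by
  haveI : Module.IsTorsionFree R (EtB R Li) := by
    refine Module.isTorsionFree_iff_smul_eq_zero.2 fun r b h => ?_
    by_cases hr : r = 0
    · exact Or.inl hr
    refine Or.inr (funext fun i => Subtype.ext ?_)
    have h1 : r • ((b i : Li i)) = 0 := congrArg Subtype.val (congrFun h i)
    rw [Algebra.smul_def] at h1
    exact (mul_eq_zero.1 h1).resolve_left (fun h2 => hr (injective_algebraMap_li R Li i (h2.trans (map_zero _).symm)))
  exact inferInstance

theorem isPushout_etB : letI := (etIncl R Li).toRingHom.toAlgebra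
    IsLocalization (Algebra.algebraMapSubmonoid (EtB R Li) (nonZeroDivisors R)) (∀ i, Li i) := by
  classical
  letI := (etIncl R Li).toRingHom.toAlgebra
  haveI : Fintype I := Fintype.ofFinite I
  refine { map_units := ?_, surj := ?_, exists_of_eq := ?_ }
  · rintro ⟨_, r, hr, rfl⟩
    rw [RingHom.algebraMap_toAlgebra, Pi.isUnit_iff]
    intro i
    refine isUnit_iff_ne_zero.2 fun h => nonZeroDivisors.ne_zero hr (injective_algebraMap_li R Li i ?_)
    rw [map_zero]
    exact h
  · intro z
    have hz : ∀ i, ∃ r : R, r ≠ 0 ∧ IsIntegral R (r • z i) := fun i => by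
      haveI : IsLocalization (nonZeroDivisors R) (FractionRing R) := inferInstance
      obtain ⟨m, hm⟩ := IsIntegral.exists_multiple_integral_of_isLocalization (M := nonZeroDivisors R)
        (Rₘ := FractionRing R) (z i) (Algebra.IsIntegral.isIntegral (R := FractionRing R) (z i))
      exact ⟨m, nonZeroDivisors.ne_zero m.2, hm⟩
    choose r hr hint using hz
    refine ⟨(fun i => ⟨(∏ j, r j) • z i, ?_⟩, ⟨_, ∏ j, r j, mem_nonZeroDivisors_of_ne_zero
      (Finset.prod_ne_zero_iff.2 fun j _ => hr j), rfl⟩), funext fun i => ?_⟩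
    · rw [← Finset.prod_erase_mul _ _ (Finset.mem_univ i), mul_smul]
      exact (hint i).smul _
    · rw [RingHom.algebraMap_toAlgebra]
      show z i * algebraMap R (Li i) (∏ j, r j) = (∏ j, r j) • z i
      rw [Algebra.smul_def, mul_comm]
  · intro a b h
    refine ⟨1, ?_⟩
    rw [RingHom.algebraMap_toAlgebra] at h
    simp only [OneMemClass.coe_one, one_mul]
    exact funext fun i => Subtype.ext (congrFun h i)

theorem unramified_of_generic (P : Ideal (∀ i, Li i)) [P.IsPrime] :
    Algebra.IsUnramifiedAt R (P.comap (etIncl R Li).toRingHom) := by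
  haveI : Fintype I := Fintype.ofFinite I
  letI := (etIncl R Li).toRingHom.toAlgebra
  haveI : IsScalarTower R (EtB R Li) (∀ i, Li i) := IsScalarTower.of_algebraMap_eq fun r => ((etIncl R Li).commutes r).symm
  haveI hloc := isPushout_etB R Li
  haveI : IsScalarTower R (FractionRing R) (∀ i, Li i) :=
    IsScalarTower.of_algebraMap_eq fun r => funext fun i => IsScalarTower.algebraMap_apply R (FractionRing R) (Li i) r
  haveI : ∀ i, Algebra.FormallyUnramified (FractionRing R) (Li i) := fun i => Algebra.FormallyUnramified.of_isSeparable _ _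
  haveI : Algebra.FormallyUnramified (FractionRing R) (∀ i, Li i) := Algebra.FormallyUnramified.pi_iff _ |>.2 inferInstance
  haveI : Algebra.FormallyUnramified R (FractionRing R) := Algebra.FormallyUnramified.of_isLocalization (nonZeroDivisors R)
  haveI : Algebra.FormallyUnramified R (∀ i, Li i) := Algebra.FormallyUnramified.comp R (FractionRing R) _
  haveI := IsLocalization.isLocalization_isLocalization_atPrime_isLocalization
    (M := Algebra.algebraMapSubmonoid (EtB R Li) (nonZeroDivisors R)) (S := ∀ i, Li i) (T := Localization.AtPrime P) P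
  haveI : Algebra.FormallyUnramified (∀ i, Li i) (Localization.AtPrime P) :=
    Algebra.FormallyUnramified.of_isLocalization P.primeCompl
  haveI : Algebra.FormallyUnramified R (Localization.AtPrime P) := Algebra.FormallyUnramified.comp R (∀ i, Li i) _
  exact Algebra.FormallyUnramified.of_equiv ((IsLocalization.algEquiv (P.comap (algebraMap (EtB R Li) (∀ i, Li i))).primeCompl
    (Localization.AtPrime P) (Localization.AtPrime (P.comap (algebraMap (EtB R Li) (∀ i, Li i))))).restrictScalars R)

/-- A prime dominated by a smooth point over a closed point is unramified. -/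
theorem unramified_of_smooth (p : Ideal R) [p.IsMaximal] (hp0 : p ≠ ⊥)
    (C A : Type u) [CommRing C] [Algebra R C] [Algebra.Smooth R C]
    (P : Ideal C) [P.IsPrime] [CommRing A] [IsDomain A] [Algebra C A] [IsLocalization.AtPrime A P]
    [IsLocalRing A] [Algebra R A] [IsScalarTower R C A] (hinj : Function.Injective (algebraMap R A))
    (θ : EtB R Li →ₐ[R] A) (hpA : (maximalIdeal A).comap (algebraMap R A) = p)
    (q : Ideal (EtB R Li)) [q.IsPrime] (hq : q = (maximalIdeal A).comap θ) :
    Algebra.IsUnramifiedAt R q := by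
  classical
  haveI : Fintype I := Fintype.ofFinite I
  obtain ⟨i, hi⟩ : ∃ i, θ (Pi.single i 1) ≠ 0 := by
    by_contra h
    push Not at h
    have h1 := map_one θ
    rw [← Finset.univ_sum_single (1 : EtB R Li), map_sum] at h1
    simp only [Pi.one_apply] at h1
    rw [Finset.sum_eq_zero (fun i _ => h i)] at h1
    exact zero_ne_one h1
  have hidem : IsIdempotentElem (Pi.single i 1 : EtB R Li) := by
    show _ * _ = _
    rw [← Pi.single_mul, mul_one]
  have he : θ (Pi.single i 1) = 1 :=
    (IsIdempotentElem.iff_eq_zero_or_one.1 (hidem.map θ)).resolve_left hi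
  have hfac : ∀ b : EtB R Li, θ b = θ (Pi.single i (b i)) := fun b => by
    have h : Pi.single i (b i) = b * Pi.single i 1 := by
      funext k
      by_cases hk : k = i
      · subst hk; simp
      · simp [Pi.single_eq_of_ne hk]
    rw [h, map_mul, he, mul_one]
  let θi : integralClosure R (Li i) →ₐ[R] A :=
    { toFun := fun b => θ (Pi.single i b)
      map_one' := he
      map_mul' := fun a b => by rw [← map_mul, ← Pi.single_mul]
      map_zero' := by rw [Pi.single_zero, map_zero]
      map_add' := fun a b => by rw [← map_add, ← Pi.single_add]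
      commutes' := fun r => (hfac (algebraMap R (EtB R Li) r)).symm.trans (θ.commutes r) }
  haveI : IsDedekindDomain (integralClosure R (Li i)) :=
    IsIntegralClosure.isDedekindDomain R (FractionRing R) (Li i) _
  haveI : Module.Finite R (integralClosure R (Li i)) := IsIntegralClosure.finite R (FractionRing R) (Li i) _
  let qi := (maximalIdeal A).comap θi
  haveI : qi.IsPrime := Ideal.comap_isPrime _ _
  have hu : Algebra.IsUnramifiedAt R qi :=
    isUnramifiedAt_of_localHom p _ C A P hinj θi hpA hp0 qi rfl
  letI : Algebra (EtB R Li) (integralClosure R (Li i)) :=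
    (Pi.evalRingHom (fun i => integralClosure R (Li i)) i).toAlgebra
  haveI : IsScalarTower R (EtB R Li) (integralClosure R (Li i)) := IsScalarTower.of_algebraMap_eq fun _ => rfl
  haveI : IsLocalization.Away (Pi.single i 1 : EtB R Li) (integralClosure R (Li i)) := by
    refine IsLocalization.away_of_isIdempotentElem_of_mul hidem (fun a b => ?_)
      (fun c => ⟨Pi.single i c, Pi.single_eq_same (M := fun i => integralClosure R (Li i)) i c⟩)
    refine ⟨fun h => funext fun k => ?_, fun h => ?_⟩
    · by_cases hk : k = i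
      · subst hk
        rw [Pi.mul_apply, Pi.mul_apply]
        exact congrArg _ h
      · simp [Pi.single_eq_of_ne hk]
    · have := congrFun h i
      rw [Pi.mul_apply, Pi.mul_apply, Pi.single_eq_same, one_mul, one_mul] at this
      exact this
  have hqq : qi.comap (algebraMap (EtB R Li) (integralClosure R (Li i))) = q := by
    rw [hq]
    ext b
    show θ (Pi.single i (b i)) ∈ maximalIdeal A ↔ θ b ∈ maximalIdeal A
    rw [← hfac]
  haveI h := IsLocalization.isLocalization_isLocalization_atPrime_isLocalization
    (M := Submonoid.powers (Pi.single i 1 : EtB R Li)) (S := integralClosure R (Li i))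
    (T := Localization.AtPrime qi) qi
  subst hqq
  haveI : Algebra.FormallyUnramified R (Localization.AtPrime qi) := hu
  exact Algebra.FormallyUnramified.of_equiv ((IsLocalization.algEquiv
    (qi.comap (algebraMap (EtB R Li) (integralClosure R (Li i)))).primeCompl
    (Localization.AtPrime qi) (Localization.AtPrime (qi.comap (algebraMap (EtB R Li) (integralClosure R (Li i)))))).restrictScalars R)

variable {X : Scheme.{u}} (pX : X ⟶ Spec (CommRingCat.of R)) [Smooth pX]

/-- Local extensions into the étale model. -/
theorem localExt_etModel (U : (Spec (CommRingCat.of (EtB R Li))).Opens)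
    (hU : (U.1 : Set (PrimeSpectrum (EtB R Li))) = Algebra.unramifiedLocus R (EtB R Li))
    (c : Spec (CommRingCat.of (∀ i, Li i)) ⟶ U) (hc : c ≫ U.ι = Spec.map (CommRingCat.ofHom (etIncl R Li).toRingHom))
    (sq : IsPullback c (Spec.map (CommRingCat.ofHom (algebraMap (FractionRing R) (∀ i, Li i))))
      (U.ι ≫ Spec.map (CommRingCat.ofHom (algebraMap R (EtB R Li))))
      (Spec.map (CommRingCat.ofHom (algebraMap R (FractionRing R)))))
    (u : pullback pX (Spec.map (CommRingCat.ofHom (algebraMap R (FractionRing R)))) ⟶ U)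
    (hu : u ≫ U.ι ≫ Spec.map (CommRingCat.ofHom (algebraMap R (EtB R Li))) =
      pullback.snd pX _ ≫ Spec.map (CommRingCat.ofHom (algebraMap R (FractionRing R))))
    (x : X) [IsDomain (X.presheaf.stalk x)] :
    LocalExt R (U.ι ≫ Spec.map (CommRingCat.ofHom (algebraMap R (EtB R Li)))) pX u x := by
  obtain ⟨C, _, _, _, P, _, _, _, φ, hφ, hφX⟩ := exists_chart R pX x
  have hinj := injective_of_chart R pX x φ hφX
  by_cases hp : (maximalIdeal (X.presheaf.stalk x)).comap φ = ⊥
  · refine localExt_of_isUnit R _ pX u hu x φ hφX fun r => ?_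
    by_contra h
    exact nonZeroDivisors.ne_zero r.2 (by
      have : (r : R) ∈ (maximalIdeal (X.presheaf.stalk x)).comap φ := h
      rwa [hp, Ideal.mem_bot] at this)
  haveI : ((maximalIdeal (X.presheaf.stalk x)).comap φ).IsPrime := Ideal.comap_isPrime _ _
  haveI : ((maximalIdeal (X.presheaf.stalk x)).comap φ).IsMaximal := Ideal.IsPrime.isMaximal inferInstance hp
  haveI : IsLocallyNoetherian X := LocallyOfFiniteType.isLocallyNoetherian pX
  haveI : IsRegularLocalRing (X.presheaf.stalk x) :=
    GrothLib.WeilExt.isRegularLocalRing_stalk_of_smooth pX GrothLib.WeilExt.isRegularLocalRing_stalk_dedekind x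
  haveI : IsIntegrallyClosed (X.presheaf.stalk x) := GrothLib.RegLoc.isIntegrallyClosed_of_isRegularLocalRing _
  letI : Algebra R (X.presheaf.stalk x) := φ.toAlgebra
  haveI : IsScalarTower R C (X.presheaf.stalk x) := IsScalarTower.of_algebraMap_eq' hφ
  let ι := algebraMap (X.presheaf.stalk x) (FractionRing (X.presheaf.stalk x))
  have hιinj : Function.Injective ι := IsFractionRing.injective _ _
  have hcinj : Function.Injective (ι.comp φ) := hιinj.comp hinj
  let ψ := IsFractionRing.lift (K := FractionRing R) hcinj
  have hψ : ψ.comp (algebraMap R (FractionRing R)) = ι.comp φ :=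
    RingHom.ext fun r => (RingHom.comp_apply ψ _ r).trans (IsFractionRing.lift_algebraMap (K := FractionRing R) hcinj r)
  have hw : (Spec.map (CommRingCat.ofHom ι) ≫ X.fromSpecStalk x) ≫ pX =
      Spec.map (CommRingCat.ofHom ψ) ≫ Spec.map (CommRingCat.ofHom (algebraMap R (FractionRing R))) := by
    rw [Category.assoc, ← hφX, ← Spec.map_comp, ← Spec.map_comp, ← CommRingCat.ofHom_comp,
      ← CommRingCat.ofHom_comp, hψ]
  let l := pullback.lift _ _ hw
  have hl := pullback.lift_fst _ _ hw
  have hl' := pullback.lift_snd _ _ hw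
  obtain ⟨v, hv, hv'⟩ : ∃ v, v ≫ c = u ∧
      v ≫ Spec.map (CommRingCat.ofHom (algebraMap (FractionRing R) (∀ i, Li i))) = pullback.snd pX _ :=
    ⟨sq.lift u (pullback.snd pX _) hu, sq.lift_fst _ _ _, sq.lift_snd _ _ _⟩
  obtain ⟨θ₀, hθ₀⟩ := Spec.map_surjective (l ≫ v)
  have hθK : θ₀.hom.comp (algebraMap (FractionRing R) (∀ i, Li i)) = ψ := by
    have h : Spec.map (CommRingCat.ofHom (algebraMap (FractionRing R) (∀ i, Li i)) ≫ θ₀) = Spec.map (CommRingCat.ofHom ψ) := by
      rw [Spec.map_comp, hθ₀, Category.assoc, hv', hl']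
    exact congrArg CommRingCat.Hom.hom (Spec.map_injective h)
  haveI : IsScalarTower R (FractionRing R) (∀ i, Li i) :=
    IsScalarTower.of_algebraMap_eq fun r => funext fun i => IsScalarTower.algebraMap_apply R (FractionRing R) (Li i) r
  let θB : EtB R Li →ₐ[R] FractionRing (X.presheaf.stalk x) :=
    { θ₀.hom.comp (etIncl R Li).toRingHom with
      commutes' := fun r => by
        show θ₀.hom (etIncl R Li (algebraMap R _ r)) = _
        rw [AlgHom.commutes, IsScalarTower.algebraMap_apply R (FractionRing R) (∀ i, Li i)]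
        exact ((RingHom.congr_fun hθK _).trans (RingHom.congr_fun hψ r)).trans
          (IsScalarTower.algebraMap_apply R (X.presheaf.stalk x) (FractionRing (X.presheaf.stalk x)) r).symm }
  haveI := finite_etB R Li
  have hint : ∀ b, ∃ a, ι a = θB b := fun b =>
    IsIntegrallyClosed.isIntegral_iff.1 (((Algebra.IsIntegral.isIntegral (R := R) b).map θB).tower_top)
  choose θA hθA using hint
  let θ : EtB R Li →ₐ[R] X.presheaf.stalk x :=
    { toFun := θA
      map_one' := hιinj (by rw [hθA, map_one, map_one])
      map_mul' := fun a b => hιinj (by rw [hθA, map_mul, map_mul, hθA, hθA])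
      map_zero' := hιinj (by rw [hθA, map_zero, map_zero])
      map_add' := fun a b => hιinj (by rw [hθA, map_add, map_add, hθA, hθA])
      commutes' := fun r => hιinj (by rw [hθA, θB.commutes]; exact IsScalarTower.algebraMap_apply R (X.presheaf.stalk x) (FractionRing (X.presheaf.stalk x)) r) }
  let h₀ : Spec (X.presheaf.stalk x) ⟶ Spec (CommRingCat.of (EtB R Li)) := Spec.map (CommRingCat.ofHom θ.toRingHom)
  have hmem : h₀ (closedPoint (X.presheaf.stalk x)) ∈ U := by
    show (h₀ (closedPoint (X.presheaf.stalk x)) : PrimeSpectrum (EtB R Li)) ∈ (U.1 : Set (PrimeSpectrum (EtB R Li)))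
    rw [hU]
    haveI : ((maximalIdeal (X.presheaf.stalk x)).comap θ).IsPrime := Ideal.comap_isPrime _ _
    exact unramified_of_smooth R Li _ hp C (X.presheaf.stalk x) P hinj θ rfl _ rfl
  have hrange : Set.range h₀ ⊆ Set.range U.ι := by
    rintro _ ⟨w, rfl⟩
    rw [Scheme.Opens.range_ι]
    exact ((specializes_closedPoint w).map h₀.continuous).mem_open U.2 hmem
  have hfac := IsOpenImmersion.lift_fac U.ι h₀ hrange
  refine ⟨IsOpenImmersion.lift U.ι h₀ hrange, l, ?_, hl, ?_⟩
  · rw [reassoc_of% hfac, ← hφX, ← Spec.map_comp, ← CommRingCat.ofHom_comp]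
    exact congrArg (fun f => Spec.map (CommRingCat.ofHom f)) θ.comp_algebraMap
  · rw [← cancel_mono U.ι, Category.assoc, hfac, ← hv, Category.assoc, Category.assoc, hc,
      ← Category.assoc, ← hθ₀, ← Spec.map_comp, ← Spec.map_comp]
    exact congrArg Spec.map (CommRingCat.hom_ext (RingHom.ext fun b => hθA b))

end GrothLib.NeronSH24
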