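import Groth.Agent.Lib.WeilExt.Dedekind
import Mathlib

/-!
# Glueing local extensions of morphisms defined on the generic fibre
-/

set_option autoImplicit false
set_option backward.isDefEq.respectTransparency false
set_option backward.isDefEq.respectTransparency.types false

universe u

open CategoryTheory Limits AlgebraicGeometry IsLocalRing TopologicalSpace

namespace GrothLib.NeronSH24

variable (R : Type u) [CommRing R] [IsDedekindDomain R]
  {G : Scheme.{u}} (pG : G ⟶ Spec (CommRingCat.of R)) {X : Scheme.{u}} (pX : X ⟶ Spec (CommRingCat.of R)) [Smooth pX]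

/-- The ring map of the base to the local ring at a point. -/
theorem exists_chart (x : X) :
    ∃ (B : Type u) (_ : CommRing B) (_ : Algebra R B) (_ : Algebra.Smooth R B) (P : Ideal B) (_ : P.IsPrime)
      (_ : Algebra B (X.presheaf.stalk x)) (_ : IsLocalization.AtPrime (X.presheaf.stalk x) P)
      (φ : R →+* X.presheaf.stalk x),
      φ = (algebraMap B (X.presheaf.stalk x)).comp (algebraMap R B) ∧
      Spec.map (CommRingCat.ofHom φ) = X.fromSpecStalk x ≫ pX := by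
  obtain ⟨U, hU, hx, -⟩ := exists_isAffineOpen_mem_and_subset (X := X) (x := x) (U := ⊤) trivial
  obtain ⟨β, hβ⟩ := Spec.map_surjective (hU.fromSpec ≫ pX)
  haveI : Smooth (Spec.map β) := by rw [hβ]; infer_instance
  have hsm : β.hom.Smooth := (HasRingHomProperty.Spec_iff (P := @Smooth)).1 inferInstance
  letI : Algebra R Γ(X, U) := β.hom.toAlgebra
  haveI : Algebra.Smooth R Γ(X, U) := hsm
  letI : Algebra Γ(X, U) (X.presheaf.stalk x) := (X.presheaf.germ U x hx).hom.toAlgebra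
  refine ⟨Γ(X, U), inferInstance, inferInstance, inferInstance, (hU.primeIdealOf ⟨x, hx⟩).asIdeal,
    inferInstance, inferInstance, hU.isLocalization_stalk ⟨x, hx⟩, _, rfl, ?_⟩
  rw [← IsAffineOpen.fromSpecStalk_eq_fromSpecStalk hU hx, IsAffineOpen.fromSpecStalk, Category.assoc, ← hβ,
    ← Spec.map_comp]
  rfl

theorem injective_of_chart (x : X) (φ : R →+* X.presheaf.stalk x)
    (hφX : Spec.map (CommRingCat.ofHom φ) = X.fromSpecStalk x ≫ pX) : Function.Injective φ := by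
  obtain ⟨y, hy, hy'⟩ := Flat.generalizingMap pX
    (show ((⟨⊥, Ideal.isPrime_bot⟩ : PrimeSpectrum R) : Spec (CommRingCat.of R)) ⤳ pX x from
      (PrimeSpectrum.le_iff_specializes _ (pX x)).mp (bot_le (a := (pX x).asIdeal)))
  obtain ⟨q, hq⟩ : y ∈ Set.range (X.fromSpecStalk x) := by rw [Scheme.range_fromSpecStalk]; exact hy
  rw [← hq, ← Scheme.Hom.comp_apply, ← hφX] at hy'
  rw [injective_iff_map_eq_zero]
  intro r hr
  have h : r ∈ (Spec.map (CommRingCat.ofHom φ) q).asIdeal := by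
    show φ r ∈ q.asIdeal
    rw [hr]
    exact q.asIdeal.zero_mem
  have e := congrArg (fun z => PrimeSpectrum.asIdeal (R := R) z) hy'
  exact (Submodule.mem_bot R).mp ((SetLike.ext_iff.1 e r).1 h)

/-- A local extension of `u` at `x`. -/
def LocalExt (u : pullback pX (Spec.map (CommRingCat.ofHom (algebraMap R (FractionRing R)))) ⟶ G) (x : X) : Prop :=
    ∃ (h : Spec (X.presheaf.stalk x) ⟶ G)
      (l : Spec (CommRingCat.of (FractionRing (X.presheaf.stalk x))) ⟶
        pullback pX (Spec.map (CommRingCat.ofHom (algebraMap R (FractionRing R))))),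
      h ≫ pG = X.fromSpecStalk x ≫ pX ∧
      l ≫ pullback.fst pX _ =
        Spec.map (CommRingCat.ofHom (algebraMap (X.presheaf.stalk x) (FractionRing (X.presheaf.stalk x)))) ≫
          X.fromSpecStalk x ∧
      Spec.map (CommRingCat.ofHom (algebraMap (X.presheaf.stalk x) (FractionRing (X.presheaf.stalk x)))) ≫ h =
        l ≫ u

theorem localExt_of_isUnit
    (u : pullback pX (Spec.map (CommRingCat.ofHom (algebraMap R (FractionRing R)))) ⟶ G)
    (hu : u ≫ pG = pullback.snd pX _ ≫ Spec.map (CommRingCat.ofHom (algebraMap R (FractionRing R))))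
    (x : X) (φ : R →+* X.presheaf.stalk x) (hφX : Spec.map (CommRingCat.ofHom φ) = X.fromSpecStalk x ≫ pX)
    (hgen : ∀ r : nonZeroDivisors R, IsUnit (φ r)) : LocalExt R pG pX u x := by
  have hψ₀ : (IsLocalization.lift hgen : FractionRing R →+* X.presheaf.stalk x).comp
      (algebraMap R (FractionRing R)) = φ := IsLocalization.lift_comp hgen
  have hw : X.fromSpecStalk x ≫ pX =
      Spec.map (CommRingCat.ofHom (IsLocalization.lift hgen : FractionRing R →+* X.presheaf.stalk x)) ≫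
        Spec.map (CommRingCat.ofHom (algebraMap R (FractionRing R))) := by
    rw [← hφX, ← Spec.map_comp, ← CommRingCat.ofHom_comp, hψ₀]
  have hl₀ := pullback.lift_fst _ _ hw
  refine ⟨pullback.lift _ _ hw ≫ u,
    Spec.map (CommRingCat.ofHom (algebraMap (X.presheaf.stalk x) (FractionRing (X.presheaf.stalk x)))) ≫
      pullback.lift _ _ hw, ?_, ?_, (Category.assoc _ _ _).symm⟩
  · rw [Category.assoc, hu, ← pullback.condition, ← Category.assoc, hl₀]
  · rw [Category.assoc, hl₀]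

/-- Maximal points lie in the generic fibre. -/
theorem exists_maximal_point (x : X) :
    ∃ m, m ⤳ x ∧ (∀ z, z ⤳ m → z = m) ∧
      m ∈ Set.range (pullback.fst pX (Spec.map (CommRingCat.ofHom (algebraMap R (FractionRing R))))) := by
  let j := Spec.map (CommRingCat.ofHom (algebraMap R (FractionRing R)))
  haveI : IsLocallyNoetherian X := LocallyOfFiniteType.isLocallyNoetherian pX
  let η : Spec (CommRingCat.of R) := (⟨⊥, Ideal.isPrime_bot⟩ : PrimeSpectrum R)
  obtain ⟨m, hm, hmx⟩ := GrothLib.LocNoeth.exists_maximal_specializes x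
  have hmax : ∀ z, z ⤳ m → z = m := fun z hz =>
    (hz.antisymm (specializes_iff_closure_subset.mpr (hm.2 isIrreducible_singleton.closure hz.closure_subset))).eq
  refine ⟨m, hmx, hmax, ?_⟩
  obtain ⟨y', hy', hy''⟩ := Flat.generalizingMap pX
    (show η ⤳ pX m from (PrimeSpectrum.le_iff_specializes η (pX m)).mp (bot_le (a := (pX m).asIdeal)))
  rw [hmax y' hy'] at hy''
  rw [Scheme.Pullback.range_fst]
  exact ⟨(⟨⊥, Ideal.isPrime_bot⟩ : PrimeSpectrum (FractionRing R)), hy''.symm ▸ PrimeSpectrum.ext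
    (Ideal.comap_bot_of_injective _ (IsFractionRing.injective R (FractionRing R)))⟩

/-- Morphisms agreeing on the generic fibre agree. -/
theorem ext_of_genericFibre [IsSeparated pG] (g₁ g₂ : X ⟶ G) (h₁ : g₁ ≫ pG = pX) (h₂ : g₂ ≫ pG = pX)
    (h : pullback.fst pX (Spec.map (CommRingCat.ofHom (algebraMap R (FractionRing R)))) ≫ g₁ =
      pullback.fst pX _ ≫ g₂) : g₁ = g₂ := by
  haveI : IsLocallyNoetherian X := LocallyOfFiniteType.isLocallyNoetherian pX
  haveI : IsReduced X := GrothLib.WeilExt.isReduced_of_isRegular X (GrothLib.WeilExt.isRegularLocalRing_stalk_of_smooth pX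
    (GrothLib.WeilExt.isRegularLocalRing_stalk_dedekind (R := R)))
  haveI : IsDominant (pullback.fst pX (Spec.map (CommRingCat.ofHom (algebraMap R (FractionRing R))))) := ⟨by
    intro x
    obtain ⟨m, hmx, -, hm⟩ := exists_maximal_point R pX x
    exact hmx.mem_closed isClosed_closure (subset_closure hm)⟩
  exact ext_of_isDominant_of_isSeparated pG (h₁.trans h₂.symm) _ h

/-- Local extensions glue on an open. -/
theorem exists_extension_on_points [IsSeparated pG] [LocallyOfFiniteType pG]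
    (u : pullback pX (Spec.map (CommRingCat.ofHom (algebraMap R (FractionRing R)))) ⟶ G)
    (hu : u ≫ pG = pullback.snd pX _ ≫ Spec.map (CommRingCat.ofHom (algebraMap R (FractionRing R))))
    (Pd : X → Prop) (H : ∀ (x : X) [IsDomain (X.presheaf.stalk x)], Pd x → LocalExt R pG pX u x) :
    ∃ (U : X.Opens) (f : (U : Scheme.{u}) ⟶ G), (∀ x, Pd x → x ∈ U) ∧ f ≫ pG = U.ι ≫ pX ∧
      (pullback.fst pX (Spec.map (CommRingCat.ofHom (algebraMap R (FractionRing R))))).resLE U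
          (pullback.fst pX _ ⁻¹ᵁ U) le_rfl ≫ f =
        (pullback.fst pX _ ⁻¹ᵁ U).ι ≫ u := by
  let j := Spec.map (CommRingCat.ofHom (algebraMap R (FractionRing R)))
  let F := pullback pX j
  let fst : F ⟶ X := pullback.fst pX j
  haveI : IsLocallyNoetherian X := LocallyOfFiniteType.isLocallyNoetherian pX
  have hreg := GrothLib.WeilExt.isRegularLocalRing_stalk_of_smooth pX
    (GrothLib.WeilExt.isRegularLocalRing_stalk_dedekind (R := R))
  haveI : IsReduced X := GrothLib.WeilExt.isReduced_of_isRegular X hreg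
  haveI : IsReduced F := GrothLib.RedSmooth.isReduced_of_smooth (pullback.snd pX j)
  haveI : LocallyOfFinitePresentation pG :=
    GrothLib.LocProp.locallyOfFinitePresentation_of_isLocallyNoetherian pG
  haveI : IsPreimmersion j := IsPreimmersion.of_isLocalization (nonZeroDivisors R)
  haveI : IsPreimmersion fst := MorphismProperty.pullback_fst _ _ inferInstance
  let η : Spec (CommRingCat.of R) := (⟨⊥, Ideal.isPrime_bot⟩ : PrimeSpectrum R)
  -- maximal points lie in the generic fibre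
  have hrange : ∀ y : X, (∀ z, z ⤳ y → z = y) → y ∈ Set.range fst := by
    intro y hy
    obtain ⟨y', hy', hy''⟩ := Flat.generalizingMap pX
      (show η ⤳ pX y from (PrimeSpectrum.le_iff_specializes η (pX y)).mp (bot_le (a := (pX y).asIdeal)))
    rw [hy y' hy'] at hy''
    rw [Scheme.Pullback.range_fst]
    exact ⟨(⟨⊥, Ideal.isPrime_bot⟩ : PrimeSpectrum (FractionRing R)), hy''.symm ▸ PrimeSpectrum.ext
      (Ideal.comap_bot_of_injective _ (IsFractionRing.injective R (FractionRing R)))⟩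
  have hdom : ∀ x : X, IsDomain (X.presheaf.stalk x) := fun x => by
    haveI := hreg x
    exact GrothLib.CMFree.isDomain_of_isRegularLocalRing _
  -- local extensions
  have hloc : ∀ x : {x : X // Pd x},
      ∃ (V : X.Opens) (g : (V : Scheme.{u}) ⟶ G), x.1 ∈ V ∧ g ≫ pG = V.ι ≫ pX ∧
      fst.resLE V (fst ⁻¹ᵁ V) le_rfl ≫ g = (fst ⁻¹ᵁ V).ι ≫ u := by
    rintro ⟨x, hx⟩
    haveI := hdom x
    obtain ⟨h, l, hh, hl, hhl⟩ := H x hx
    have hcl : pX x = pG (h (closedPoint (X.presheaf.stalk x))) := by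
      rw [← Scheme.Hom.comp_apply h pG, hh, Scheme.Hom.comp_apply, Scheme.fromSpecStalk_closedPoint]
    obtain ⟨V₁, hxV₁, g₁, hg₁, hg₁S⟩ := GrothLib.SpreadOut.spread_out pX pG hcl (Scheme.stalkClosedPointTo h) (by
      apply Spec.map_injective
      rw [← cancel_mono ((Spec (CommRingCat.of R)).fromSpecStalk _)]
      simp only [Spec.map_comp, Category.assoc, Scheme.SpecMap_stalkMap_fromSpecStalk,
        Scheme.SpecMap_stalkSpecializes_fromSpecStalk]
      rw [← Category.assoc]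
      exact (congrArg (fun t => t ≫ pG) (Scheme.Spec_stalkClosedPointTo_fromSpecStalk h)).trans hh)
    rw [Scheme.Spec_stalkClosedPointTo_fromSpecStalk] at hg₁
    obtain ⟨V₂, hxV₂, hirr⟩ := GrothLib.LocNoeth.exists_irreducible_nhd x (by rw [nilradical_eq_zero]; exact Ideal.isPrime_bot)
    let V := V₁ ⊓ V₂
    refine ⟨V, X.homOfLE inf_le_left ≫ g₁, ⟨hxV₁, hxV₂⟩, ?_, ?_⟩
    · rw [Category.assoc, hg₁S, Scheme.homOfLE_ι_assoc]
    have hsub : Set.range l ⊆ Set.range (fst ⁻¹ᵁ V).ι := by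
      rintro _ ⟨r, rfl⟩
      rw [Scheme.Opens.range_ι]
      show fst (l r) ∈ V
      rw [← Scheme.Hom.comp_apply, hl, Scheme.Hom.comp_apply]
      have : X.fromSpecStalk x (Spec.map (CommRingCat.ofHom (algebraMap (X.presheaf.stalk x) (FractionRing (X.presheaf.stalk x)))) r) ∈
          Set.range (X.fromSpecStalk x) := ⟨_, rfl⟩
      rw [Scheme.range_fromSpecStalk] at this
      exact Specializes.mem_open this V.2 ⟨hxV₁, hxV₂⟩
    let lV := IsOpenImmersion.lift (fst ⁻¹ᵁ V).ι l hsub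
    have hlV : lV ≫ (fst ⁻¹ᵁ V).ι = l := IsOpenImmersion.lift_fac _ _ _
    haveI : IsDominant lV := ⟨by
      intro p
      obtain ⟨ρ, hρ⟩ : ∃ ρ, IsGenericPoint ρ (closure (V₂ : Set X)) := QuasiSober.sober hirr.closure isClosed_closure
      obtain ⟨r, hr⟩ : ρ ∈ Set.range (X.fromSpecStalk x) := by
        rw [Scheme.range_fromSpecStalk]; exact hρ.specializes (subset_closure hxV₂)
      let r₀ : Spec (CommRingCat.of (FractionRing (X.presheaf.stalk x))) :=
        (⟨⊥, Ideal.isPrime_bot⟩ : PrimeSpectrum (FractionRing (X.presheaf.stalk x)))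
      let ξ := Spec.map (CommRingCat.ofHom (algebraMap (X.presheaf.stalk x) (FractionRing (X.presheaf.stalk x)))) r₀
      have hξ : ξ ⤳ r := (PrimeSpectrum.le_iff_specializes ξ r).mp fun a ha => by
        have ha0 : algebraMap (X.presheaf.stalk x) (FractionRing (X.presheaf.stalk x)) a = 0 := Ideal.mem_bot.mp ha
        rw [IsFractionRing.injective (X.presheaf.stalk x) (FractionRing (X.presheaf.stalk x)) (ha0.trans (map_zero _).symm)]
        exact r.asIdeal.zero_mem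
      have hξρ : X.fromSpecStalk x ξ ⤳ ρ := hr ▸ hξ.map (X.fromSpecStalk x).continuous
      have hξx : X.fromSpecStalk x ξ ⤳ x := hξρ.trans (hρ.specializes (subset_closure hxV₂))
      have hρξ : ρ ⤳ X.fromSpecStalk x ξ := hρ.specializes (subset_closure (hξx.mem_open V₂.2 hxV₂))
      have h1 : fst ((fst ⁻¹ᵁ V).ι (lV r₀)) = ρ := by
        rw [← Scheme.Hom.comp_apply lV, hlV, ← Scheme.Hom.comp_apply, hl, Scheme.Hom.comp_apply]
        exact (hξρ.antisymm hρξ).eq
      have h2 : ρ ⤳ fst ((fst ⁻¹ᵁ V).ι p) := hρ.specializes (subset_closure p.2.2)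
      rw [← h1, fst.isEmbedding.isInducing.specializes_iff, (fst ⁻¹ᵁ V).ι.isOpenEmbedding.isInducing.specializes_iff] at h2
      exact h2.mem_closed isClosed_closure (subset_closure ⟨r₀, rfl⟩)⟩
    refine ext_of_isDominant_of_isSeparated pG ?_ lV ?_
    · simp only [Category.assoc, hg₁S, hu, Scheme.homOfLE_ι_assoc, Scheme.Hom.resLE_comp_ι_assoc]
      rw [pullback.condition]
    · have e1 : lV ≫ fst.resLE V (fst ⁻¹ᵁ V) le_rfl ≫ X.homOfLE (inf_le_left : V ≤ V₁) =
          Spec.map (CommRingCat.ofHom (algebraMap (X.presheaf.stalk x) (FractionRing (X.presheaf.stalk x)))) ≫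
            V₁.fromSpecStalkOfMem x hxV₁ := by
        rw [← cancel_mono V₁.ι]
        simp only [Category.assoc, Scheme.homOfLE_ι, Scheme.Hom.resLE_comp_ι, Scheme.Opens.fromSpecStalkOfMem_ι, reassoc_of% hlV]
        exact hl
      rw [reassoc_of% e1, reassoc_of% hlV, ← hg₁, hhl]
  choose V g hxV hgS hgu using hloc
  let U : X.Opens := ⨆ v, V v
  have hU : ∀ y : X, Pd y → y ∈ U :=
    fun y hy => Opens.mem_iSup.mpr ⟨⟨y, hy⟩, hxV ⟨y, hy⟩⟩
  have hagree : ∀ (T : X.Opens) (a b : (T : Scheme.{u}) ⟶ G), a ≫ pG = T.ι ≫ pX → b ≫ pG = T.ι ≫ pX →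
      fst.resLE T (fst ⁻¹ᵁ T) le_rfl ≫ a = fst.resLE T (fst ⁻¹ᵁ T) le_rfl ≫ b → a = b := fun T a b ha hb hab => by
    haveI : IsDominant (fst.resLE T (fst ⁻¹ᵁ T) le_rfl) := ⟨by
      intro w
      obtain ⟨m, hm, hmw⟩ := GrothLib.LocNoeth.exists_maximal_specializes (T.ι w)
      have hmax : ∀ z, z ⤳ m → z = m := fun z hz =>
        (hz.antisymm (specializes_iff_closure_subset.mpr (hm.2 isIrreducible_singleton.closure hz.closure_subset))).eq
      obtain ⟨v, hv⟩ := hrange m hmax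
      have hvW : fst v ∈ T := hv ▸ hmw.mem_open T.2 w.2
      have h1 : T.ι (fst.resLE T (fst ⁻¹ᵁ T) le_rfl ⟨v, hvW⟩) = m := by
        rw [← Scheme.Hom.comp_apply, Scheme.Hom.resLE_comp_ι, Scheme.Hom.comp_apply]; exact hv
      rw [← h1, T.ι.isOpenEmbedding.isInducing.specializes_iff] at hmw
      exact hmw.mem_closed isClosed_closure (subset_closure ⟨_, rfl⟩)⟩
    exact ext_of_isDominant_of_isSeparated pG (ha.trans hb.symm) _ hab
  have hres : ∀ v (T : X.Opens) (hT : T ≤ V v),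
      fst.resLE T (fst ⁻¹ᵁ T) le_rfl ≫ X.homOfLE hT ≫ g v = (fst ⁻¹ᵁ T).ι ≫ u := fun v T hT => by
    have : fst.resLE T (fst ⁻¹ᵁ T) le_rfl ≫ X.homOfLE hT = F.homOfLE (fun a ha => hT ha) ≫ fst.resLE (V v) (fst ⁻¹ᵁ V v) le_rfl := by
      rw [← cancel_mono (V v).ι]; simp
    rw [reassoc_of% this, hgu, Scheme.homOfLE_ι_assoc]
  have hcov : ⨆ v, (U.ι ⁻¹ᵁ V v) = ⊤ := eq_top_iff.mpr fun a _ => by
    obtain ⟨v, hv⟩ := Opens.mem_iSup.mp a.2
    exact Opens.mem_iSup.mpr ⟨v, hv⟩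
  let 𝒰 : (U : Scheme.{u}).OpenCover := (U : Scheme.{u}).openCoverOfIsOpenCover _ (TopologicalSpace.IsOpenCover.mk hcov)
  let lo : ∀ v, ((U.ι ⁻¹ᵁ V v : (U : Scheme.{u}).Opens) : Scheme.{u}) ⟶ V v := fun v => U.ι.resLE (V v) (U.ι ⁻¹ᵁ V v) le_rfl
  have hlo : ∀ v, lo v ≫ (V v).ι = (U.ι ⁻¹ᵁ V v).ι ≫ U.ι := fun v => Scheme.Hom.resLE_comp_ι _ _
  have hcompat : ∀ a b, pullback.fst (U.ι ⁻¹ᵁ V a).ι (U.ι ⁻¹ᵁ V b).ι ≫ lo a ≫ g a =
      pullback.snd (U.ι ⁻¹ᵁ V a).ι (U.ι ⁻¹ᵁ V b).ι ≫ lo b ≫ g b := by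
    intro a b
    let T := V a ⊓ V b
    have hT := hagree T (X.homOfLE inf_le_left ≫ g a) (X.homOfLE inf_le_right ≫ g b)
      (by rw [Category.assoc, hgS, Scheme.homOfLE_ι_assoc]) (by rw [Category.assoc, hgS, Scheme.homOfLE_ι_assoc])
      (by rw [hres a T, hres b T])
    let k := pullback.fst (U.ι ⁻¹ᵁ V a).ι (U.ι ⁻¹ᵁ V b).ι ≫ lo a ≫ (V a).ι
    have hk : k = pullback.snd (U.ι ⁻¹ᵁ V a).ι (U.ι ⁻¹ᵁ V b).ι ≫ lo b ≫ (V b).ι := by
      simp only [k, hlo, pullback.condition_assoc]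
    have hr : Set.range k ⊆ Set.range T.ι := by
      rintro _ ⟨w, rfl⟩
      rw [Scheme.Opens.range_ι]
      refine ⟨?_, ?_⟩
      · show k w ∈ V a
        simp only [k, Scheme.Hom.comp_apply]
        exact (lo a _).2
      · show k w ∈ V b
        rw [hk]
        simp only [Scheme.Hom.comp_apply]
        exact (lo b _).2
    have hl := IsOpenImmersion.lift_fac _ _ hr
    have e1 : IsOpenImmersion.lift T.ι k hr ≫ X.homOfLE inf_le_left = pullback.fst _ _ ≫ lo a := by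
      rw [← cancel_mono (V a).ι, Category.assoc, Category.assoc, Scheme.homOfLE_ι, hl]
    have e2 : IsOpenImmersion.lift T.ι k hr ≫ X.homOfLE inf_le_right = pullback.snd _ _ ≫ lo b := by
      rw [← cancel_mono (V b).ι, Category.assoc, Category.assoc, Scheme.homOfLE_ι, hl, hk]
    rw [← reassoc_of% e1, ← reassoc_of% e2, hT]
  let f : (U : Scheme.{u}) ⟶ G := 𝒰.glueMorphisms (fun v => lo v ≫ g v) hcompat
  have hfv : ∀ v, (U.ι ⁻¹ᵁ V v).ι ≫ f = lo v ≫ g v := fun v => 𝒰.ι_glueMorphisms _ hcompat v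
  have hfS : f ≫ pG = U.ι ≫ pX := Scheme.Cover.hom_ext 𝒰 _ _ fun v => by
    show (U.ι ⁻¹ᵁ V v).ι ≫ f ≫ pG = (U.ι ⁻¹ᵁ V v).ι ≫ U.ι ≫ pX
    rw [reassoc_of% (hfv v), hgS, reassoc_of% (hlo v)]
  refine ⟨U, f, hU, hfS, ?_⟩
  have hcovF : ⨆ v, ((fst ⁻¹ᵁ U).ι ⁻¹ᵁ (fst ⁻¹ᵁ V v)) = ⊤ := eq_top_iff.mpr fun a _ => by
    obtain ⟨v, hv⟩ := Opens.mem_iSup.mp a.2
    exact Opens.mem_iSup.mpr ⟨v, hv⟩
  refine Scheme.Cover.hom_ext ((fst ⁻¹ᵁ U : F.Opens).toScheme.openCoverOfIsOpenCover _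
    (TopologicalSpace.IsOpenCover.mk hcovF)) _ _ fun v => ?_
  let O := (fst ⁻¹ᵁ U).ι ⁻¹ᵁ (fst ⁻¹ᵁ V v)
  show O.ι ≫ fst.resLE U (fst ⁻¹ᵁ U) le_rfl ≫ f = O.ι ≫ (fst ⁻¹ᵁ U).ι ≫ u
  let q : (O : Scheme.{u}) ⟶ (fst ⁻¹ᵁ V v : F.Opens).toScheme :=
    (fst ⁻¹ᵁ U).ι.resLE (fst ⁻¹ᵁ V v) O le_rfl
  have hq : q ≫ (fst ⁻¹ᵁ V v).ι = O.ι ≫ (fst ⁻¹ᵁ U).ι := Scheme.Hom.resLE_comp_ι _ _
  have hr : Set.range (q ≫ fst.resLE (V v) (fst ⁻¹ᵁ V v) le_rfl) ⊆ Set.range (lo v) := by
    rintro _ ⟨w, rfl⟩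
    have hw : (U.ι ⁻¹ᵁ V v).ι ⁻¹' {fst.resLE U (fst ⁻¹ᵁ U) le_rfl (O.ι w)} ≠ ∅ := by
      refine Set.nonempty_iff_ne_empty.mp ⟨⟨fst.resLE U (fst ⁻¹ᵁ U) le_rfl (O.ι w), ?_⟩, rfl⟩
      show U.ι (fst.resLE U (fst ⁻¹ᵁ U) le_rfl (O.ι w)) ∈ V v
      rw [← Scheme.Hom.comp_apply, Scheme.Hom.resLE_comp_ι, Scheme.Hom.comp_apply]
      exact w.2
    obtain ⟨w', hw'⟩ := Set.nonempty_iff_ne_empty.mpr hw
    refine ⟨w', (V v).ι.isOpenEmbedding.injective ?_⟩
    rw [← Scheme.Hom.comp_apply, hlo, Scheme.Hom.comp_apply, hw', ← Scheme.Hom.comp_apply, Scheme.Hom.resLE_comp_ι,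
      ← Scheme.Hom.comp_apply, ← Scheme.Hom.comp_apply, Category.assoc, Scheme.Hom.resLE_comp_ι, reassoc_of% hq]
  haveI : IsOpenImmersion (lo v) := by
    haveI : IsOpenImmersion (lo v ≫ (V v).ι) := by rw [hlo]; infer_instance
    exact IsOpenImmersion.of_comp _ (V v).ι
  have hl := IsOpenImmersion.lift_fac _ _ hr
  have e : IsOpenImmersion.lift (lo v) (q ≫ fst.resLE (V v) (fst ⁻¹ᵁ V v) le_rfl) hr ≫ (U.ι ⁻¹ᵁ V v).ι =
      O.ι ≫ fst.resLE U (fst ⁻¹ᵁ U) le_rfl := by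
    rw [← cancel_mono U.ι, Category.assoc, Category.assoc, Scheme.Hom.resLE_comp_ι, ← hlo, reassoc_of% hl,
      Scheme.Hom.resLE_comp_ι, reassoc_of% hq]
  rw [← reassoc_of% e, hfv, reassoc_of% hl, hgu, reassoc_of% hq]

/-- Local extensions at all points give a global extension. -/
theorem exists_extension_of_forall_localExt [IsSeparated pG] [LocallyOfFiniteType pG]
    (u : pullback pX (Spec.map (CommRingCat.ofHom (algebraMap R (FractionRing R)))) ⟶ G)
    (hu : u ≫ pG = pullback.snd pX _ ≫ Spec.map (CommRingCat.ofHom (algebraMap R (FractionRing R))))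
    (H : ∀ (x : X) [IsDomain (X.presheaf.stalk x)], LocalExt R pG pX u x) :
    ∃ g : X ⟶ G, g ≫ pG = pX ∧ pullback.fst pX _ ≫ g = u := by
  obtain ⟨U, f, hU, hfS, hfu⟩ := exists_extension_on_points R pG pX u hu (fun _ => True) fun x _ _ => H x
  haveI : IsIso U.ι := by
    haveI : Surjective U.ι := ⟨fun x => ⟨⟨x, hU x trivial⟩, rfl⟩⟩
    exact (isIso_iff_isOpenImmersion_and_surjective _).2 ⟨inferInstance, inferInstance⟩
  refine ⟨inv U.ι ≫ f, by rw [Category.assoc, hfS, IsIso.inv_hom_id_assoc], ?_⟩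
  haveI : IsIso (pullback.fst pX (Spec.map (CommRingCat.ofHom (algebraMap R (FractionRing R)))) ⁻¹ᵁ U).ι := by
    haveI : Surjective (pullback.fst pX (Spec.map (CommRingCat.ofHom (algebraMap R (FractionRing R)))) ⁻¹ᵁ U).ι :=
      ⟨fun v => ⟨⟨v, hU _ trivial⟩, rfl⟩⟩
    exact (isIso_iff_isOpenImmersion_and_surjective _).2 ⟨inferInstance, inferInstance⟩
  rw [← cancel_epi (pullback.fst pX (Spec.map (CommRingCat.ofHom (algebraMap R (FractionRing R)))) ⁻¹ᵁ U).ι, ← hfu,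
    ← Scheme.Hom.resLE_comp_ι_assoc (pullback.fst pX (Spec.map (CommRingCat.ofHom (algebraMap R (FractionRing R))))) le_rfl,
    IsIso.hom_inv_id_assoc]

end GrothLib.NeronSH24
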